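import Mathlib

/-!
# Gluing finite morphisms along clopen overlaps
-/

set_option autoImplicit false
universe u

namespace Groth.Agent.Lib.Helper6.GenFin

open AlgebraicGeometry CategoryTheory CategoryTheory.Limits TopologicalSpace MorphismProperty

variable {X Y : Scheme.{u}} (f : X ⟶ Y)

/-- Binary gluing: if `A → Y` and `B → Y` are finite and `B \ A` is open, then `A ∪ B → Y` is
finite. -/
theorem isFinite_sup_of_isOpen_diff (A B : X.Opens)
    (hA : IsFinite (A.ι ≫ f)) (hB : IsFinite (B.ι ≫ f))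
    (hcl : IsOpen ((B : Set X) \ (A : Set X))) : IsFinite ((A ⊔ B).ι ≫ f) := by
  let B' : X.Opens := ⟨(B : Set X) \ (A : Set X), hcl⟩
  have hB'B : B' ≤ B := fun x hx => hx.1
  have hB'S : B' ≤ A ⊔ B := hB'B.trans le_sup_right
  have hAS : A ≤ A ⊔ B := le_sup_left
  let iA : A.toScheme ⟶ (A ⊔ B).toScheme := X.homOfLE hAS
  let iB : B'.toScheme ⟶ (A ⊔ B).toScheme := X.homOfLE hB'S
  have hcompl : IsCompl iA.opensRange iB.opensRange := by
    simp only [iA, iB, Scheme.opensRange_homOfLE]
    constructor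
    · rw [disjoint_iff]
      ext x
      simp only [Opens.coe_inf, Scheme.Hom.coe_preimage, Set.mem_inter_iff, Set.mem_preimage,
        SetLike.mem_coe, Opens.coe_bot, Set.mem_empty_iff_false, iff_false, not_and]
      intro h1 h2
      exact h2.2 h1
    · rw [codisjoint_iff]
      ext x
      simp only [Opens.coe_sup, Scheme.Hom.coe_preimage, Set.mem_union, Set.mem_preimage,
        SetLike.mem_coe, Opens.coe_top, Set.mem_univ, iff_true]
      by_cases hxA : ((A ⊔ B).ι x) ∈ A
      · exact Or.inl hxA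
      · right
        have hx : ((A ⊔ B).ι x) ∈ A ⊔ B := x.2
        rcases hx with h | h
        · exact absurd h hxA
        · exact ⟨h, hxA⟩
  obtain ⟨hc⟩ := nonempty_isColimit_binaryCofanMk_of_isCompl iA iB hcompl
  let e : (A ⊔ B).toScheme ≅ A.toScheme ⨿ B'.toScheme :=
    hc.coconePointUniqueUpToIso (colimit.isColimit (pair A.toScheme B'.toScheme))
  have hAfin : IsFinite (iA ≫ (A ⊔ B).ι ≫ f) := by
    have : iA ≫ (A ⊔ B).ι ≫ f = A.ι ≫ f := by
      simp only [iA, ← Category.assoc, Scheme.homOfLE_ι]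
    rw [this]; exact hA
  have hBfin : IsFinite (iB ≫ (A ⊔ B).ι ≫ f) := by
    have h1 : iB ≫ (A ⊔ B).ι ≫ f = X.homOfLE hB'B ≫ B.ι ≫ f := by
      simp only [iB, ← Category.assoc, Scheme.homOfLE_ι]
    rw [h1]
    have hclosed : IsClosed (Set.range (X.homOfLE hB'B)) := by
      have : Set.range (X.homOfLE hB'B) = (B.ι ⁻¹' (A : Set X))ᶜ := by
        ext x
        simp only [Set.mem_range, Set.mem_compl_iff, Set.mem_preimage, SetLike.mem_coe]
        constructor
        · rintro ⟨y, rfl⟩
          have : (B.ι (X.homOfLE hB'B y)) = y.1 := Scheme.homOfLE_apply hB'B y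
          rw [this]
          exact y.2.2
        · intro hx
          refine ⟨⟨x.1, x.2, hx⟩, ?_⟩
          exact Subtype.ext (Scheme.homOfLE_apply hB'B ⟨x.1, x.2, hx⟩)
      rw [this]
      exact (A.2.preimage B.ι.continuous).isClosed_compl
    have : IsClosedImmersion (X.homOfLE hB'B) := .of_isPreimmersion _ hclosed
    infer_instance
  have key : (A ⊔ B).ι ≫ f = e.hom ≫ coprod.desc (iA ≫ (A ⊔ B).ι ≫ f) (iB ≫ (A ⊔ B).ι ≫ f) := by
    apply BinaryCofan.IsColimit.hom_ext hc
    · have : iA ≫ e.hom = coprod.inl :=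
        hc.comp_coconePointUniqueUpToIso_hom _ ⟨WalkingPair.left⟩
      show iA ≫ (A ⊔ B).ι ≫ f = iA ≫ e.hom ≫ coprod.desc _ _
      rw [reassoc_of% this, coprod.inl_desc]
    · have : iB ≫ e.hom = coprod.inr :=
        hc.comp_coconePointUniqueUpToIso_hom _ ⟨WalkingPair.right⟩
      show iB ≫ (A ⊔ B).ι ≫ f = iB ≫ e.hom ≫ coprod.desc _ _
      rw [reassoc_of% this, coprod.inr_desc]
  rw [key]
  infer_instance

/-- Finite gluing: opens `U i` each finite over `Y`, with all differences `U j \ U i` open. -/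
theorem isFinite_iSup_of_isOpen_diff {ι : Type*} (U : ι → X.Opens)
    (h1 : ∀ i, IsFinite ((U i).ι ≫ f))
    (h2 : ∀ i j, IsOpen ((U j : Set X) \ (U i : Set X))) (s : Finset ι) :
    ∀ W : X.Opens, W = ⨆ i ∈ s, U i → IsFinite (W.ι ≫ f) := by
  classical
  induction s using Finset.induction_on with
  | empty =>
    intro W hW
    have hW' : W = ⊥ := by simpa using hW
    subst hW'
    have : IsEmpty ((⊥ : X.Opens).toScheme) := by
      constructor
      intro x
      exact x.2
    infer_instance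
  | insert a s _ ih =>
    intro W hW
    have hW' : W = U a ⊔ ⨆ i ∈ s, U i := by rw [hW, Finset.iSup_insert]
    subst hW'
    refine isFinite_sup_of_isOpen_diff f (U a) (⨆ i ∈ s, U i) (h1 a) (ih _ rfl) ?_
    have : ((⨆ i ∈ s, U i : X.Opens) : Set X) \ (U a : Set X) =
        ⋃ i ∈ s, ((U i : Set X) \ (U a : Set X)) := by
      ext x
      simp only [Opens.coe_iSup, Set.mem_sdiff, Set.mem_iUnion, SetLike.mem_coe, exists_prop]
      constructor
      · rintro ⟨⟨i, hi, hx⟩, hxa⟩
        exact ⟨i, hi, hx, hxa⟩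
      · rintro ⟨i, hi, hx, hxa⟩
        exact ⟨⟨i, hi, hx⟩, hxa⟩
    rw [this]
    exact isOpen_biUnion fun i _ => h2 a i

/-- Gluing for a finite cover. -/
theorem isFinite_of_iSup_eq_top {ι : Type*} (U : ι → X.Opens)
    (h1 : ∀ i, IsFinite ((U i).ι ≫ f))
    (h2 : ∀ i j, IsOpen ((U j : Set X) \ (U i : Set X))) (s : Finset ι)
    (hs : ⨆ i ∈ s, U i = ⊤) : IsFinite f := by
  have h := isFinite_iSup_of_isOpen_diff f U h1 h2 s ⊤ hs.symm
  have e : f = X.topIso.inv ≫ ((⊤ : X.Opens).ι ≫ f) := by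
    rw [← Category.assoc, Scheme.toIso_inv_ι, Category.id_comp]
  rw [e]
  infer_instance

/-- Gluing for a finite jointly surjective family of open immersions. -/
theorem isFinite_of_openImmersions {ι : Type*} [Finite ι] {W : ι → Scheme.{u}}
    (j : ∀ i, W i ⟶ X) [∀ i, IsOpenImmersion (j i)]
    (h1 : ∀ i, IsFinite (j i ≫ f))
    (h2 : ∀ i k, IsOpen (Set.range (j k) \ Set.range (j i)))
    (hs : ∀ x : X, ∃ i, x ∈ Set.range (j i)) : IsFinite f := by
  classical
  have := Fintype.ofFinite ι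
  refine isFinite_of_iSup_eq_top f (fun i => (j i).opensRange) ?_ ?_ Finset.univ ?_
  · intro i
    have : (j i).opensRange.ι ≫ f = (j i).isoOpensRange.inv ≫ j i ≫ f := by
      rw [← Category.assoc, Scheme.Hom.isoOpensRange_inv_comp]
    rw [this]
    infer_instance
  · intro i k
    exact h2 i k
  · rw [eq_top_iff]
    intro x _
    obtain ⟨i, hi⟩ := hs x
    simp only [Opens.mem_iSup]
    exact ⟨i, Finset.mem_univ i, hi⟩

end Groth.Agent.Lib.Helper6.GenFin
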