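import Mathlib

/-!
# Generic finiteness: ring-level lemmas

`R → A` of finite type, `p` a minimal prime of `R` with finitely many primes of `A` above it.
Then `A_g` is finite over `R_g` for some `g ∉ p`.
-/

namespace Groth.Agent.Lib.Helper6.GenFin

open TensorProduct

/-- If `m` consists of nilpotents and `B/mB` is integral over `S`, then `B` is integral over `S`. -/
theorem isIntegral_of_quotient_nilpotent {S B : Type*} [CommRing S] [CommRing B] [Algebra S B]
    (m : Ideal S) (hm : m ≤ nilradical S)
    (h : ∀ b : B, IsIntegral S (Ideal.Quotient.mk (m.map (algebraMap S B)) b)) :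
    Algebra.IsIntegral S B := by
  have hmB : m.map (algebraMap S B) ≤ nilradical B := by
    rw [Ideal.map_le_iff_le_comap]
    intro x hx
    exact mem_nilradical.mpr ((mem_nilradical.mp (hm hx)).map (algebraMap S B))
  refine ⟨fun b => ?_⟩
  obtain ⟨P, hP, hPb⟩ := h b
  have h1 : Polynomial.eval₂ (algebraMap S B) b P ∈ m.map (algebraMap S B) := by
    rw [← Ideal.Quotient.eq_zero_iff_mem, Polynomial.hom_eval₂]
    exact hPb
  obtain ⟨n, hn⟩ := hmB h1
  exact ⟨P ^ n, hP.pow n, by rw [Polynomial.eval₂_pow, hn]⟩

/-- A finite type algebra with finite spectrum over a zero-dimensional local ring is finite. -/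
theorem finite_of_finite_primeSpectrum {S B : Type*} [CommRing S] [CommRing B] [Algebra S B]
    [IsLocalRing S] (hm : IsLocalRing.maximalIdeal S ≤ nilradical S)
    [Algebra.FiniteType S B] [Finite (PrimeSpectrum B)] : Module.Finite S B := by
  set m := IsLocalRing.maximalIdeal S with hm_def
  set I := m.map (algebraMap S B) with hI
  have hft1 : Algebra.FiniteType S (B ⧸ I) :=
    Algebra.FiniteType.of_surjective (Ideal.Quotient.mkₐ S I) Ideal.Quotient.mk_surjective
  have hft : Algebra.FiniteType (S ⧸ m) (B ⧸ I) :=
    Algebra.FiniteType.of_restrictScalars_finiteType S (S ⧸ m) (B ⧸ I)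
  have hfinSpec : Finite (PrimeSpectrum (B ⧸ I)) :=
    Finite.of_injective _
      (PrimeSpectrum.comap_injective_of_surjective (Ideal.Quotient.mk I)
        Ideal.Quotient.mk_surjective)
  have hmax : m.IsMaximal := IsLocalRing.maximalIdeal.isMaximal S
  let _ : Field (S ⧸ m) := Ideal.Quotient.field m
  have hfin : Module.Finite (S ⧸ m) (B ⧸ I) := by
    rw [Module.finite_iff_isArtinianRing, isArtinianRing_iff_isNoetherianRing_krullDimLE_zero]
    have : IsJacobsonRing (B ⧸ I) := isJacobsonRing_of_finiteType (A := S ⧸ m)
    exact ⟨Algebra.FiniteType.isNoetherianRing (S ⧸ m) _,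
      (PrimeSpectrum.discreteTopology_iff_finite_and_krullDimLE_zero.mp inferInstance).right⟩
  have hint : Algebra.IsIntegral (S ⧸ m) (B ⧸ I) := Algebra.IsIntegral.of_finite _ _
  have hint0 : Algebra.IsIntegral S (S ⧸ m) :=
    Algebra.IsIntegral.of_surjective (Ideal.Quotient.mkₐ S m) Ideal.Quotient.mk_surjective
  have hint1 : Algebra.IsIntegral S (B ⧸ I) := Algebra.IsIntegral.trans (S ⧸ m)
  have : Algebra.IsIntegral S B :=
    isIntegral_of_quotient_nilpotent m hm (fun b => hint1.isIntegral _)
  exact Algebra.IsIntegral.finite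

attribute [local instance] Algebra.TensorProduct.rightAlgebra in
/-- For `R → A` of finite type and `p` a minimal prime of `R` with finitely many primes of `A`
above it, `R_p ⊗ A` is finite over `R_p`. -/
theorem finite_localization_of_minimal {R A : Type*} [CommRing R] [CommRing A] [Algebra R A]
    [Algebra.FiniteType R A] (p : Ideal R) [p.IsPrime] (hp : p ∈ minimalPrimes R)
    (hfin : (p.primesOver A).Finite) :
    Module.Finite (Localization.AtPrime p) (Localization.AtPrime p ⊗[R] A) := by
  have hloc : IsLocalization (Algebra.algebraMapSubmonoid A p.primeCompl)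
      (Localization.AtPrime p ⊗[R] A) := IsLocalization.tensorRight _ p.primeCompl
  have hdim : Ring.KrullDimLE 0 (Localization.AtPrime p) :=
    Ring.KrullDimLE.of_isLocalization p hp _
  have hm : IsLocalRing.maximalIdeal (Localization.AtPrime p) ≤
      nilradical (Localization.AtPrime p) :=
    (Ring.KrullDimLE.nilradical_eq_maximalIdeal _).ge
  have hfinT : Finite ↥(p.primesOver A) := hfin.to_subtype
  have hover : ∀ q : PrimeSpectrum (Localization.AtPrime p ⊗[R] A),
      (q.asIdeal.comap (algebraMap A (Localization.AtPrime p ⊗[R] A))) ∈ p.primesOver A := by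
    intro q
    refine ⟨inferInstance, ⟨?_⟩⟩
    have h1 : (q.asIdeal.comap (algebraMap (Localization.AtPrime p)
        (Localization.AtPrime p ⊗[R] A))) = IsLocalRing.maximalIdeal _ :=
      Ring.KrullDimLE.eq_maximalIdeal_of_isPrime _
    rw [Ideal.under_def, Ideal.comap_comap, ← IsScalarTower.algebraMap_eq,
      IsScalarTower.algebraMap_eq R (Localization.AtPrime p), ← Ideal.comap_comap, h1]
    exact (IsLocalization.AtPrime.under_maximalIdeal (Localization.AtPrime p) p).symm
  have hfinSpec : Finite (PrimeSpectrum (Localization.AtPrime p ⊗[R] A)) := by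
    refine Finite.of_injective (β := ↥(p.primesOver A)) (fun q => ⟨_, hover q⟩) ?_
    intro q₁ q₂ h
    apply PrimeSpectrum.localization_comap_injective (Localization.AtPrime p ⊗[R] A)
      (Algebra.algebraMapSubmonoid A p.primeCompl)
    ext1
    exact congrArg Subtype.val h
  exact finite_of_finite_primeSpectrum hm

attribute [local instance] Algebra.TensorProduct.rightAlgebra in
/-- If `R_p ⊗ A` is finite over `R_p`, each `a : A` becomes integral over `R` after multiplying by
some `g ∉ p`. -/
theorem exists_smul_isIntegral {R A : Type*} [CommRing R] [CommRing A] [Algebra R A]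
    (p : Ideal R) [p.IsPrime]
    (hfin : Module.Finite (Localization.AtPrime p) (Localization.AtPrime p ⊗[R] A)) (a : A) :
    ∃ g ∈ p.primeCompl, IsIntegral R (g • a) := by
  have hloc : IsLocalization (Algebra.algebraMapSubmonoid A p.primeCompl)
      (Localization.AtPrime p ⊗[R] A) := IsLocalization.tensorRight _ p.primeCompl
  have hint : IsIntegral (Localization.AtPrime p)
      (algebraMap A (Localization.AtPrime p ⊗[R] A) a) :=
    (Algebra.IsIntegral.of_finite (Localization.AtPrime p) _).isIntegral _
  obtain ⟨m, hm⟩ := IsIntegral.exists_multiple_integral_of_isLocalization p.primeCompl _ hint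
  have e : m • algebraMap A (Localization.AtPrime p ⊗[R] A) a =
      algebraMap A (Localization.AtPrime p ⊗[R] A) (m.1 • a) := by
    rw [Submonoid.smul_def]
    exact (map_smul (IsScalarTower.toAlgHom R A (Localization.AtPrime p ⊗[R] A)) m.1 a).symm
  rw [e] at hm
  obtain ⟨m', hm', h⟩ := IsLocalization.exists_isIntegral_smul_of_isIntegral_map
    (Sₘ := Localization.AtPrime p ⊗[R] A) p.primeCompl hm
  exact ⟨m' * m.1, mul_mem hm' m.2, by rwa [mul_smul]⟩

theorem exists_forall_smul_isIntegral {R A : Type*} [CommRing R] [CommRing A] [Algebra R A]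
    (p : Ideal R) [p.IsPrime] (s : Finset A)
    (h : ∀ a ∈ s, ∃ g ∈ p.primeCompl, IsIntegral R (g • a)) :
    ∃ g ∈ p.primeCompl, ∀ a ∈ s, IsIntegral R (g • a) := by
  classical
  induction s using Finset.induction_on with
  | empty => exact ⟨1, one_mem _, by simp⟩
  | insert a s _ ih =>
    obtain ⟨g₁, hg₁, h₁⟩ := h a (Finset.mem_insert_self a s)
    obtain ⟨g₂, hg₂, h₂⟩ := ih (fun b hb => h b (Finset.mem_insert_of_mem hb))
    refine ⟨g₂ * g₁, mul_mem hg₂ hg₁, fun b hb => ?_⟩
    rcases Finset.mem_insert.mp hb with rfl | hb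
    · rw [mul_smul]; exact h₁.smul g₂
    · rw [mul_comm, mul_smul]; exact (h₂ b hb).smul g₁

/-- Finiteness of a localisation away from `g`, given that `g • a` is integral for generators. -/
theorem finite_away_of_smul_isIntegral {R A : Type*} [CommRing R] [CommRing A] [Algebra R A]
    (s : Finset A) (hs : Algebra.adjoin R (s : Set A) = ⊤) (g : R)
    (hg : ∀ a ∈ s, IsIntegral R (g • a))
    {R' A' : Type*} [CommRing R'] [CommRing A'] [Algebra R R'] [Algebra A A']
    [IsLocalization.Away g R'] [IsLocalization.Away (algebraMap R A g) A'] (ψ : R' →+* A')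
    (hcomp : ψ.comp (algebraMap R R') = (algebraMap A A').comp (algebraMap R A)) :
    ψ.Finite := by
  have hft : Algebra.FiniteType R A := ⟨⟨s, hs⟩⟩
  refine RingHom.IsIntegral.to_finite ?_ ?_
  · -- integrality
    obtain ⟨u, hu⟩ := IsLocalization.Away.algebraMap_isUnit (S := R') g
    have hgA : ∀ r : R, algebraMap A A' (algebraMap R A r) = ψ (algebraMap R R' r) :=
      fun r => (RingHom.congr_fun hcomp r).symm
    have key : ∀ a : A, IsIntegral R (g • a) → ψ.IsIntegralElem (algebraMap A A' a) := by
      intro a ha
      have h1 : ((algebraMap A A').comp (algebraMap R A)).IsIntegralElem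
          (algebraMap A A' (g • a)) := RingHom.IsIntegralElem.map ha _
      rw [← hcomp] at h1
      have h2 : ψ.IsIntegralElem (algebraMap A A' (g • a)) := RingHom.IsIntegralElem.of_comp h1
      have h3 : algebraMap A A' a = ψ (↑u⁻¹) * algebraMap A A' (g • a) := by
        rw [Algebra.smul_def, map_mul, ← mul_assoc, hgA, ← hu, ← map_mul, Units.inv_mul, map_one,
          one_mul]
      rw [h3]
      exact RingHom.IsIntegralElem.mul _ ψ.isIntegralElem_map h2
    have key2 : ∀ a : A, ψ.IsIntegralElem (algebraMap A A' a) := by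
      intro a
      have ha : a ∈ Algebra.adjoin R (s : Set A) := hs ▸ Algebra.mem_top
      induction ha using Algebra.adjoin_induction with
      | mem x hx => exact key x (hg x hx)
      | algebraMap r => rw [hgA]; exact ψ.isIntegralElem_map
      | add x y _ _ hx hy => rw [map_add]; exact RingHom.IsIntegralElem.add _ hx hy
      | mul x y _ _ hx hy => rw [map_mul]; exact RingHom.IsIntegralElem.mul _ hx hy
    intro x
    obtain ⟨a, ⟨_, n, rfl⟩, rfl⟩ :=
      IsLocalization.exists_mk'_eq (Submonoid.powers (algebraMap R A g)) x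
    have h4 : IsLocalization.mk' A' a
        (⟨algebraMap R A g ^ n, n, rfl⟩ : Submonoid.powers (algebraMap R A g)) =
        ψ ((↑u⁻¹ : R') ^ n) * algebraMap A A' a := by
      rw [IsLocalization.mk'_eq_iff_eq_mul]
      simp only [map_pow, hgA, ← hu]
      rw [mul_assoc, mul_comm (algebraMap A A' a), ← mul_assoc, ← mul_pow, ← map_mul,
        Units.inv_mul, map_one, one_pow, one_mul]
    rw [h4]
    exact RingHom.IsIntegralElem.mul _ ψ.isIntegralElem_map (key2 a)
  · -- finite type
    have h1 : ((algebraMap A A').comp (algebraMap R A)).FiniteType := by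
      refine RingHom.FiniteType.comp ?_ ?_
      · exact RingHom.finiteType_algebraMap.mpr
          (IsLocalization.finiteType_of_monoid_fg (Submonoid.powers (algebraMap R A g)) A')
      · exact RingHom.finiteType_algebraMap.mpr hft
    rw [← hcomp] at h1
    exact RingHom.FiniteType.of_comp_finiteType h1

/-- **Generic finiteness, ring level.**  `R → A` of finite type, `p` a minimal prime of `R` with
finitely many primes of `A` above it: then `A_g` is finite over `R_g` for some `g ∉ p`. -/
theorem exists_finite_away {R A : Type*} [CommRing R] [CommRing A] [Algebra R A]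
    [Algebra.FiniteType R A] (p : Ideal R) [p.IsPrime] (hp : p ∈ minimalPrimes R)
    (hfin : (p.primesOver A).Finite) :
    ∃ g ∉ p, ∀ {R' A' : Type*} [CommRing R'] [CommRing A'] [Algebra R R'] [Algebra A A']
      [IsLocalization.Away g R'] [IsLocalization.Away (algebraMap R A g) A'] (ψ : R' →+* A'),
      ψ.comp (algebraMap R R') = (algebraMap A A').comp (algebraMap R A) → ψ.Finite := by
  obtain ⟨s, hs⟩ := (inferInstance : Algebra.FiniteType R A).out
  have h1 := finite_localization_of_minimal p hp hfin
  obtain ⟨g, hg, h⟩ := exists_forall_smul_isIntegral p s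
    (fun a _ => exists_smul_isIntegral p h1 a)
  exact ⟨g, hg, fun ψ hψ => finite_away_of_smul_isIntegral s hs g h ψ hψ⟩

end Groth.Agent.Lib.Helper6.GenFin
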