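import Mathlib
import Groth.Agent.Lib.Helper6.GenFin.Ring

/-!
# Generic finiteness: scheme-level local statement
-/

set_option autoImplicit false
universe u

namespace Groth.Agent.Lib.Helper6.GenFin

open AlgebraicGeometry CategoryTheory TopologicalSpace Opposite MorphismProperty

variable {X Y : Scheme.{u}}

/-- The prime of a generic point in an affine open is a minimal prime. -/
theorem mem_minimalPrimes_of_generic {V : Y.Opens} (hV : IsAffineOpen V) (η : Y) (hηV : η ∈ V)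
    (hη : ∀ y : Y, y ⤳ η → y = η) :
    (hV.primeIdealOf ⟨η, hηV⟩).asIdeal ∈ minimalPrimes Γ(Y, V) := by
  refine ⟨⟨inferInstance, bot_le⟩, fun q hq hle => ?_⟩
  let q' : PrimeSpectrum Γ(Y, V) := ⟨q, hq.1⟩
  have h1 : q' ⤳ hV.primeIdealOf ⟨η, hηV⟩ := (PrimeSpectrum.le_iff_specializes _ _).mp hle
  have h2 : hV.fromSpec q' ⤳ hV.fromSpec (hV.primeIdealOf ⟨η, hηV⟩) :=
    h1.map hV.fromSpec.continuous
  have h3 : hV.fromSpec (hV.primeIdealOf ⟨η, hηV⟩) = η := hV.fromSpec_primeIdealOf ⟨η, hηV⟩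
  have h4 : hV.fromSpec q' = η := hη _ (h3 ▸ h2)
  have h5 : q' = hV.primeIdealOf ⟨η, hηV⟩ :=
    hV.fromSpec.isOpenEmbedding.injective (h4.trans h3.symm)
  exact (congrArg PrimeSpectrum.asIdeal h5).ge

/-- Finiteness of the set of primes over the prime of `η`. -/
theorem finite_primesOver_of_finite_fiber (f : X ⟶ Y) {V : Y.Opens} (hV : IsAffineOpen V)
    {U : X.Opens} (hU : IsAffineOpen U) (e : U ≤ f ⁻¹ᵁ V) (η : Y) (hηV : η ∈ V)
    (hfin : {x : X | x ∈ U ∧ f x = η}.Finite) :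
    letI := (f.appLE V U e).hom.toAlgebra
    ((hV.primeIdealOf ⟨η, hηV⟩).asIdeal.primesOver Γ(X, U)).Finite := by
  let _ := (f.appLE V U e).hom.toAlgebra
  have hF : Finite ↥{x : X | x ∈ U ∧ f x = η} := hfin.to_subtype
  have key : ∀ q : ↥((hV.primeIdealOf ⟨η, hηV⟩).asIdeal.primesOver Γ(X, U)),
      hU.fromSpec ⟨q.1, q.2.1⟩ ∈ U ∧ f (hU.fromSpec ⟨q.1, q.2.1⟩) = η := by
    intro q
    refine ⟨?_, ?_⟩
    · have : hU.fromSpec ⟨q.1, q.2.1⟩ ∈ Set.range hU.fromSpec := ⟨_, rfl⟩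
      rw [hU.range_fromSpec] at this
      exact this
    · have h0 := congrArg (fun g : Spec Γ(X, U) ⟶ Y => g ⟨q.1, q.2.1⟩)
        (hV.SpecMap_appLE_fromSpec f hU e)
      have h1 : f (hU.fromSpec ⟨q.1, q.2.1⟩) =
          hV.fromSpec (Spec.map (f.appLE V U e) ⟨q.1, q.2.1⟩) := h0.symm
      rw [h1]
      have h2 : Spec.map (f.appLE V U e) ⟨q.1, q.2.1⟩ = hV.primeIdealOf ⟨η, hηV⟩ := by
        apply PrimeSpectrum.ext
        exact (q.2.2.over).symm
      rw [h2]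
      exact hV.fromSpec_primeIdealOf ⟨η, hηV⟩
  have : Finite ↥((hV.primeIdealOf ⟨η, hηV⟩).asIdeal.primesOver Γ(X, U)) := by
    refine Finite.of_injective (β := ↥{x : X | x ∈ U ∧ f x = η})
      (fun q => ⟨hU.fromSpec ⟨q.1, q.2.1⟩, key q⟩) ?_
    intro q₁ q₂ h
    have h1 : hU.fromSpec ⟨q₁.1, q₁.2.1⟩ = hU.fromSpec ⟨q₂.1, q₂.2.1⟩ :=
      congrArg (fun z : ↥{x : X | x ∈ U ∧ f x = η} => (z.1 : X)) h
    have h2 := hU.fromSpec.isOpenEmbedding.injective h1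
    exact Subtype.ext (congrArg PrimeSpectrum.asIdeal h2)
  exact Set.toFinite _

set_option backward.isDefEq.respectTransparency.types false in
/-- Finiteness of a restriction to affine opens is finiteness of the ring map. -/
theorem isFinite_resLE_iff (f : X ⟶ Y) {V : Y.Opens} {U : X.Opens} (hV : IsAffineOpen V)
    (hU : IsAffineOpen U) (e : U ≤ f ⁻¹ᵁ V) :
    IsFinite (f.resLE V U e) ↔ (f.appLE V U e).hom.Finite := by
  have hV' : IsAffine V.toScheme := hV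
  have hU' : IsAffine U.toScheme := hU
  rw [HasAffineProperty.iff_of_isAffine (P := @IsFinite), and_iff_right hU',
    RingHom.finite_respectsIso.arrow_mk_iso_iff (arrowResLEAppIso f V U e)]

/-- Membership of a point of an affine open in a basic open in terms of its prime. -/
theorem mem_basicOpen_iff_notMem_primeIdealOf {V : Y.Opens} (hV : IsAffineOpen V) (η : Y)
    (hηV : η ∈ V) (g : Γ(Y, V)) :
    η ∈ Y.basicOpen g ↔ g ∉ (hV.primeIdealOf ⟨η, hηV⟩).asIdeal := by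
  have h3 : hV.fromSpec (hV.primeIdealOf ⟨η, hηV⟩) = η := hV.fromSpec_primeIdealOf ⟨η, hηV⟩
  have h4 : hV.primeIdealOf ⟨η, hηV⟩ ∈ hV.fromSpec ⁻¹ᵁ Y.basicOpen g ↔
      hV.primeIdealOf ⟨η, hηV⟩ ∈ PrimeSpectrum.basicOpen g := by
    rw [hV.fromSpec_preimage_basicOpen]
    exact Iff.rfl
  have h5 : hV.primeIdealOf ⟨η, hηV⟩ ∈ hV.fromSpec ⁻¹ᵁ Y.basicOpen g ↔ η ∈ Y.basicOpen g := by
    show hV.fromSpec (hV.primeIdealOf ⟨η, hηV⟩) ∈ Y.basicOpen g ↔ _
    rw [h3]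
  rw [← h5, h4]
  rfl

/-- **Generic finiteness, affine-local form.**  For affine opens `U ⊆ f⁻¹ V` with finitely many
points of `U` over the generic point `η ∈ V`, some basic open `D(g) ∋ η` of `V` has
`U ∩ f⁻¹ D(g) → D(g)` finite. -/
theorem exists_isFinite_resLE (f : X ⟶ Y) [LocallyOfFiniteType f] (η : Y)
    (hη : ∀ y : Y, y ⤳ η → y = η) {V : Y.Opens} (hV : IsAffineOpen V) (hηV : η ∈ V)
    {U : X.Opens} (hU : IsAffineOpen U) (e : U ≤ f ⁻¹ᵁ V)
    (hfin : {x : X | x ∈ U ∧ f x = η}.Finite) :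
    ∃ g : Γ(Y, V), η ∈ Y.basicOpen g ∧ ∀ (U' : X.Opens) (e' : U' ≤ f ⁻¹ᵁ Y.basicOpen g),
      U' = U ⊓ f ⁻¹ᵁ Y.basicOpen g → IsFinite (f.resLE (Y.basicOpen g) U' e') := by
  let _ : Algebra Γ(Y, V) Γ(X, U) := (f.appLE V U e).hom.toAlgebra
  have hft : Algebra.FiniteType Γ(Y, V) Γ(X, U) :=
    RingHom.finiteType_algebraMap.mp (f.finiteType_appLE hV hU e)
  obtain ⟨g, hg, H⟩ := exists_finite_away (hV.primeIdealOf ⟨η, hηV⟩).asIdeal
    (mem_minimalPrimes_of_generic hV η hηV hη)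
    (finite_primesOver_of_finite_fiber f hV hU e η hηV hfin)
  refine ⟨g, (mem_basicOpen_iff_notMem_primeIdealOf hV η hηV g).mpr hg, ?_⟩
  intro U' e' hU'
  have hU'eq : U' = X.basicOpen (f.appLE V U e g) := hU'.trans (Scheme.basicOpen_appLE ..).symm
  subst hU'eq
  rw [isFinite_resLE_iff f (hV.basicOpen g) (hU.basicOpen _) e']
  let iU : X.basicOpen (f.appLE V U e g) ⟶ U := homOfLE (X.basicOpen_le _)
  let iV : Y.basicOpen g ⟶ V := homOfLE (Y.basicOpen_le g)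
  let _ : Algebra Γ(X, U) Γ(X, X.basicOpen (f.appLE V U e g)) :=
    (X.presheaf.map iU.op).hom.toAlgebra
  have locA : IsLocalization.Away (f.appLE V U e g) Γ(X, X.basicOpen (f.appLE V U e g)) :=
    hU.isLocalization_basicOpen _
  let _ : Algebra Γ(Y, V) Γ(Y, Y.basicOpen g) := (Y.presheaf.map iV.op).hom.toAlgebra
  have locV : IsLocalization.Away g Γ(Y, Y.basicOpen g) := hV.isLocalization_basicOpen g
  have locA' : IsLocalization.Away (algebraMap Γ(Y, V) Γ(X, U) g)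
      Γ(X, X.basicOpen (f.appLE V U e g)) := locA
  refine H (f.appLE (Y.basicOpen g) (X.basicOpen (f.appLE V U e g)) e').hom ?_
  ext s
  show f.appLE (Y.basicOpen g) (X.basicOpen (f.appLE V U e g)) e' (Y.presheaf.map iV.op s) =
    X.presheaf.map iU.op (f.appLE V U e s)
  rw [← CommRingCat.comp_apply, ← CommRingCat.comp_apply, Scheme.Hom.map_appLE,
    Scheme.Hom.appLE_map]

set_option backward.isDefEq.respectTransparency.types false in
/-- Finiteness of a restriction is inherited by smaller opens. -/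
theorem isFinite_morphismRestrict_of_le (h : X ⟶ Y) {V' V'' : Y.Opens} (hle : V'' ≤ V')
    (hfin : IsFinite (h ∣_ V')) : IsFinite (h ∣_ V'') := by
  have h1 : IsFinite (h ∣_ V' ∣_ (V'.ι ⁻¹ᵁ V'')) := inferInstance
  have e : V'.ι ''ᵁ (V'.ι ⁻¹ᵁ V'') = V'' := by
    simp [Scheme.Hom.image_preimage_eq_opensRange_inf, hle]
  exact (MorphismProperty.arrow_mk_iso_iff @IsFinite
    (morphismRestrictRestrict h V' _ ≪≫ morphismRestrictEq h e)).mp h1

/-- **Generic finiteness for an affine open of the source**, in `morphismRestrict` form. -/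
theorem exists_isFinite_morphismRestrict_ι_comp (f : X ⟶ Y) [LocallyOfFiniteType f] (η : Y)
    (hη : ∀ y : Y, y ⤳ η → y = η) {V : Y.Opens} (hV : IsAffineOpen V) (hηV : η ∈ V)
    {U : X.Opens} (hU : IsAffineOpen U) (e : U ≤ f ⁻¹ᵁ V)
    (hfin : {x : X | x ∈ U ∧ f x = η}.Finite) :
    ∃ V' : Y.Opens, V' ≤ V ∧ η ∈ V' ∧ IsFinite ((U.ι ≫ f) ∣_ V') := by
  have hUaff : IsAffine U.toScheme := hU
  have e₀ : (⊤ : U.toScheme.Opens) ≤ (U.ι ≫ f) ⁻¹ᵁ V := fun x _ => e x.2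
  have hfin₀ : {x : U.toScheme | x ∈ (⊤ : U.toScheme.Opens) ∧ (U.ι ≫ f) x = η}.Finite := by
    refine Set.Finite.of_finite_image (f := fun x : U.toScheme => (x.1 : X)) (hfin.subset ?_)
      (fun a _ b _ hab => Subtype.ext hab)
    rintro _ ⟨x, ⟨-, hx⟩, rfl⟩
    exact ⟨x.2, hx⟩
  obtain ⟨g, hg, H⟩ := exists_isFinite_resLE (U.ι ≫ f) η hη hV hηV (isAffineOpen_top _) e₀ hfin₀
  refine ⟨Y.basicOpen g, Y.basicOpen_le g, hg, ?_⟩
  have := H ((U.ι ≫ f) ⁻¹ᵁ Y.basicOpen g) le_rfl (top_inf_eq _).symm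
  rwa [Scheme.Hom.resLE_eq_morphismRestrict] at this

end Groth.Agent.Lib.Helper6.GenFin
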