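import Mathlib
import Groth.Agent.Lib.Helper6.GenFin.Sch
import Groth.Agent.Lib.Helper6.GenFin.Glue

/-!
# Generic finiteness: assembling the local statements
-/

set_option autoImplicit false
universe u

namespace Groth.Agent.Lib.Helper6.GenFin

open AlgebraicGeometry CategoryTheory TopologicalSpace Opposite MorphismProperty

variable {X Y : Scheme.{u}}

set_option backward.isDefEq.respectTransparency false in
/-- **Generic finiteness over a generic point, given a finite affine cover.** -/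
theorem exists_isFinite_morphismRestrict_of_cover (f : X ⟶ Y) [LocallyOfFiniteType f] (η : Y)
    (hη : ∀ y : Y, y ⤳ η → y = η) {V₀ : Y.Opens} (hV₀ : IsAffineOpen V₀) (hηV₀ : η ∈ V₀)
    {ι : Type*} [Finite ι] (U : ι → X.Opens) (hU : ∀ i, IsAffineOpen (U i))
    (hUle : ∀ i, U i ≤ f ⁻¹ᵁ V₀) (hcov : ∀ x : X, f x ∈ V₀ → ∃ i, x ∈ U i)
    (hfin : (f ⁻¹' {η}).Finite)
    (hC : ∀ i k, ∀ z : X, z ∈ U k → f z = η → z ∈ closure ((U i : Set X) ∩ U k) → z ∈ U i) :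
    ∃ V : Y.Opens, IsAffineOpen V ∧ V ≤ V₀ ∧ η ∈ V ∧ IsFinite (f ∣_ V) := by
  classical
  -- Step 1
  have h1 : ∀ i, ∃ V' : Y.Opens, V' ≤ V₀ ∧ η ∈ V' ∧ IsFinite (((U i).ι ≫ f) ∣_ V') := fun i =>
    exists_isFinite_morphismRestrict_ι_comp f η hη hV₀ hηV₀ (hU i) (hUle i)
      (hfin.subset fun x hx => hx.2)
  choose V' hV'le hV'η hV'fin using h1
  -- Step 2
  let V₁ : Y.Opens := ⟨V₀ ∩ ⋂ i, (V' i : Set Y),
    V₀.2.inter (isOpen_iInter_of_finite fun i => (V' i).2)⟩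
  have hV₁le : ∀ i, V₁ ≤ V' i := fun i x hx => Set.mem_iInter.mp hx.2 i
  have hV₁V₀ : V₁ ≤ V₀ := fun x hx => hx.1
  have hηV₁ : η ∈ V₁ := ⟨hηV₀, Set.mem_iInter.mpr hV'η⟩
  have hfin₁ : ∀ i, IsFinite (((U i).ι ≫ f) ∣_ V₁) := fun i =>
    isFinite_morphismRestrict_of_le _ (hV₁le i) (hV'fin i)
  -- Step 3
  let Z : ι → ι → Set X := fun i k => closure ((U i : Set X) ∩ U k) ∩ (U i : Set X)ᶜ
  have hZ : ∀ i k, IsClosed (Z i k) := fun i k =>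
    isClosed_closure.inter (U i).2.isClosed_compl
  let T : ∀ (i k : ι), Set ↥((((U k).ι ≫ f) ⁻¹ᵁ V₁ : (U k).toScheme.Opens)) :=
    fun i k => {x | (x.1.1 : X) ∈ Z i k}
  have hT : ∀ i k, IsClosed (T i k) := fun i k =>
    (hZ i k).preimage (continuous_subtype_val.comp continuous_subtype_val)
  have hcl : ∀ i k, IsClosed ((((U k).ι ≫ f) ∣_ V₁) '' T i k) := fun i k =>
    (((U k).ι ≫ f) ∣_ V₁).isClosedMap _ (hT i k)
  let O : Set ↥V₁ := ⋂ p : ι × ι, ((((U p.2).ι ≫ f) ∣_ V₁) '' T p.1 p.2)ᶜ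
  have hO : IsOpen O := isOpen_iInter_of_finite fun p => (hcl p.1 p.2).isOpen_compl
  let V₂ : Y.Opens := V₁.ι ''ᵁ ⟨O, hO⟩
  have hV₂V₁ : V₂ ≤ V₁ := by
    rintro _ ⟨y, -, rfl⟩
    exact y.2
  have hmemV₂ : ∀ y : Y, y ∈ V₂ ↔ ∃ hy : y ∈ V₁, (⟨y, hy⟩ : ↥V₁) ∈ O := by
    intro y
    constructor
    · rintro ⟨y', hy', rfl⟩
      exact ⟨y'.2, hy'⟩
    · rintro ⟨hy, hy'⟩
      exact ⟨⟨y, hy⟩, hy', rfl⟩
  have hηV₂ : η ∈ V₂ := by
    rw [hmemV₂]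
    refine ⟨hηV₁, Set.mem_iInter.mpr fun p => ?_⟩
    rintro ⟨x, hx, hxη⟩
    have hfx : f (x.1.1 : X) = η := by
      have := morphismRestrict_base_coe ((U p.2).ι ≫ f) V₁ x
      rw [hxη] at this
      exact this.symm
    exact hx.2 (hC p.1 p.2 x.1.1 x.1.2 hfx hx.1)
  have hc : ∀ i k, ∀ x : X, x ∈ U k → f x ∈ V₂ → x ∉ U i →
      x ∉ closure ((U i : Set X) ∩ U k) := by
    intro i k x hxk hfx hxi hxcl
    obtain ⟨hy, hy'⟩ := (hmemV₂ _).mp hfx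
    have := Set.mem_iInter.mp hy' (i, k)
    apply this
    refine ⟨⟨⟨x, hxk⟩, hy⟩, ⟨hxcl, hxi⟩, ?_⟩
    apply Subtype.ext
    exact morphismRestrict_base_coe ((U k).ι ≫ f) V₁ _
  -- Step 4
  obtain ⟨V, hV, hηV, hVV₂⟩ := exists_isAffineOpen_mem_and_subset hηV₂
  have hVV₁ : V ≤ V₁ := fun x hx => hV₂V₁ (hVV₂ hx)
  refine ⟨V, hV, fun x hx => hV₁V₀ (hVV₁ hx), hηV, ?_⟩
  -- Step 5
  have hrange : ∀ i, Set.range ((U i).ι ∣_ (f ⁻¹ᵁ V)) = {x | (x.1 : X) ∈ U i} := by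
    intro i
    rw [morphismRestrict_base, Set.range_restrictPreimage, Scheme.Opens.range_ι]
    rfl
  refine isFinite_of_openImmersions (f ∣_ V) (fun i => (U i).ι ∣_ (f ⁻¹ᵁ V)) ?_ ?_ ?_
  · intro i
    rw [← morphismRestrict_comp]
    exact isFinite_morphismRestrict_of_le _ hVV₁ (hfin₁ i)
  · intro i k
    have hmem : ∀ (i : ι) (x : ↥(f ⁻¹ᵁ V)), x ∈ Set.range ((U i).ι ∣_ (f ⁻¹ᵁ V)) ↔
        (x.1 : X) ∈ U i := fun i x => by rw [hrange]; rfl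
    have : (Set.range ((U k).ι ∣_ (f ⁻¹ᵁ V)) \ Set.range ((U i).ι ∣_ (f ⁻¹ᵁ V))) =
        Subtype.val ⁻¹' ((U k : Set X) ∩ (closure ((U i : Set X) ∩ U k))ᶜ) := by
      ext x
      rw [Set.mem_sdiff, hmem, hmem]
      simp only [Set.mem_preimage, Set.mem_inter_iff, SetLike.mem_coe, Set.mem_compl_iff]
      constructor
      · rintro ⟨hk, hi⟩
        exact ⟨hk, hc i k x.1 hk (hVV₂ x.2) hi⟩
      · rintro ⟨hk, hcl'⟩
        exact ⟨hk, fun hi => hcl' (subset_closure ⟨hi, hk⟩)⟩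
    rw [this]
    exact ((U k).2.inter isClosed_closure.isOpen_compl).preimage continuous_subtype_val
  · intro x
    obtain ⟨i, hi⟩ := hcov x.1 (hV₁V₀ (hVV₁ x.2))
    exact ⟨i, by rw [hrange]; exact hi⟩

end Groth.Agent.Lib.Helper6.GenFin
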