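import Mathlib

/-!
# Closure of a quasi-compact open of an affine scheme consists of specializations
-/

set_option autoImplicit false
universe u

namespace Groth.Agent.Lib.Helper6.GenFin

open AlgebraicGeometry TopologicalSpace

/-- A point in the closure of a basic open is a specialization of a point of it. -/
theorem exists_specializes_of_mem_closure_basicOpen {A : Type*} [CommRing A] (a : A)
    {z : PrimeSpectrum A} (hz : z ∈ closure (PrimeSpectrum.basicOpen a : Set (PrimeSpectrum A))) :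
    ∃ w ∈ (PrimeSpectrum.basicOpen a : Set (PrimeSpectrum A)), w ⤳ z := by
  by_cases h0 : (0 : A) ∈ z.asIdeal.primeCompl ⊔ Submonoid.powers a
  · exfalso
    obtain ⟨s, hs, _, ⟨n, rfl⟩, hsa⟩ := Submonoid.mem_sup.mp h0
    obtain ⟨Q, hQs, hQa⟩ := mem_closure_iff.mp hz (PrimeSpectrum.basicOpen s)
      (PrimeSpectrum.basicOpen s).2 hs
    have h1 : s * a ^ n ∈ Q.asIdeal := hsa ▸ Q.asIdeal.zero_mem
    rcases Q.2.mem_or_mem h1 with h | h
    · exact hQs h
    · exact hQa (Q.2.mem_of_pow_mem n h)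
  · have hdisj : Disjoint ((⊥ : Ideal A) : Set A)
        ((z.asIdeal.primeCompl ⊔ Submonoid.powers a : Submonoid A) : Set A) := by
      rw [Set.disjoint_left]
      intro x hx hx'
      have : x = 0 := hx
      exact h0 (this ▸ hx')
    obtain ⟨Q, hQ, -, hQd⟩ := Ideal.exists_le_prime_disjoint ⊥ _ hdisj
    refine ⟨⟨Q, hQ⟩, ?_, ?_⟩
    · show a ∉ Q
      intro ha
      exact Set.disjoint_left.mp hQd ha
        (SetLike.le_def.mp le_sup_right (Submonoid.mem_powers a))
    · rw [← PrimeSpectrum.le_iff_specializes]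
      show Q ≤ z.asIdeal
      intro x hx
      by_contra hxz
      exact Set.disjoint_left.mp hQd hx (SetLike.le_def.mp le_sup_left hxz)

/-- A point in the closure of a quasi-compact open of a prime spectrum is a specialization of a
point of it. -/
theorem exists_specializes_of_mem_closure_of_isCompact {A : Type*} [CommRing A]
    {K : Set (PrimeSpectrum A)} (hK : IsCompact K) (hKo : IsOpen K) {z : PrimeSpectrum A}
    (hz : z ∈ closure K) : ∃ w ∈ K, w ⤳ z := by
  obtain ⟨t, rfl⟩ := PrimeSpectrum.isCompact_isOpen_iff.mp ⟨hK, hKo⟩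
  have hKeq : (PrimeSpectrum.zeroLocus (t : Set A))ᶜ =
      ⋃ a ∈ t, (PrimeSpectrum.basicOpen a : Set (PrimeSpectrum A)) := by
    ext Q
    simp only [Set.mem_compl_iff, PrimeSpectrum.mem_zeroLocus, Set.mem_iUnion, SetLike.mem_coe,
      PrimeSpectrum.mem_basicOpen, exists_prop, Set.not_subset]
  rw [hKeq, Finset.closure_biUnion] at hz
  obtain ⟨a, ha, hza⟩ := Set.mem_iUnion₂.mp hz
  obtain ⟨w, hw, hwz⟩ := exists_specializes_of_mem_closure_basicOpen a hza
  exact ⟨w, hKeq ▸ Set.mem_iUnion₂.mpr ⟨a, ha, hw⟩, hwz⟩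

/-- A point of an affine open `U` lying in the closure of a quasi-compact open `K ⊆ U` is a
specialization of a point of `K`. -/
theorem exists_specializes_of_mem_closure_of_isAffineOpen {X : Scheme.{u}} {U : X.Opens}
    (hU : IsAffineOpen U) {K : Set X} (hK : IsCompact K) (hKo : IsOpen K) (hKU : K ⊆ U)
    {z : X} (hzU : z ∈ U) (hz : z ∈ closure K) : ∃ w ∈ K, w ⤳ z := by
  have hemb := hU.fromSpec.isOpenEmbedding
  have hKrange : K ⊆ Set.range hU.fromSpec := by rw [hU.range_fromSpec]; exact hKU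
  have hK' : IsCompact (hU.fromSpec ⁻¹' K) :=
    (hemb.isInducing.isCompact_preimage_iff hKrange).mpr hK
  have hKo' : IsOpen (hU.fromSpec ⁻¹' K) := hKo.preimage hU.fromSpec.continuous
  have hz' : hU.primeIdealOf ⟨z, hzU⟩ ∈ closure (hU.fromSpec ⁻¹' K) := by
    rw [← hemb.isOpenMap.preimage_closure_eq_closure_preimage hU.fromSpec.continuous]
    show hU.fromSpec (hU.primeIdealOf ⟨z, hzU⟩) ∈ closure K
    rw [hU.fromSpec_primeIdealOf]
    exact hz
  obtain ⟨w, hw, hwz⟩ := exists_specializes_of_mem_closure_of_isCompact hK' hKo' hz'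
  refine ⟨hU.fromSpec w, hw, ?_⟩
  have := hwz.map hU.fromSpec.continuous
  rwa [hU.fromSpec_primeIdealOf] at this

end Groth.Agent.Lib.Helper6.GenFin
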