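import Mathlib
import Groth.Agent.Lib.Helper6.GenFin.Main
import Groth.Agent.Lib.Helper6.GenFin.Top

/-!
# Generic finiteness: quasi-compact quasi-separated case
-/

set_option autoImplicit false
universe u

namespace Groth.Agent.Lib.Helper6.GenFin

open AlgebraicGeometry CategoryTheory TopologicalSpace

variable {X Y : Scheme.{u}}

/-- In a finite fibre of a morphism locally of finite type there are no proper specializations. -/
theorem eq_of_specializes_of_finite_fiber (f : X ⟶ Y) [LocallyOfFiniteType f] (η : Y)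
    (hfin : (f ⁻¹' {η}).Finite) {w z : X} (hw : f w = η) (hz : f z = η) (h : w ⤳ z) : w = z := by
  have : Finite (f.fiber η) := (f.fiberHomeo η).finite_iff.mpr hfin
  have : DiscreteTopology (f.fiber η) := inferInstance
  have : DiscreteTopology (f ⁻¹' {η}) := (f.fiberHomeo η).symm.isEmbedding.discreteTopology
  have h1 : (⟨w, hw⟩ : f ⁻¹' {η}) ⤳ ⟨z, hz⟩ := (subtype_specializes_iff _ _).mpr h
  exact congrArg Subtype.val h1.eq

/-- If the fibre over `η` is finite, a morphism is finite over every small enough affine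
neighbourhood of the generic point `η`, for `f` of finite type and quasi-separated. -/
theorem exists_isFinite_morphismRestrict_of_qcqs (f : X ⟶ Y) [LocallyOfFiniteType f]
    [QuasiCompact f] [QuasiSeparated f] (η : Y) (hη : ∀ y : Y, y ⤳ η → y = η)
    (hfin : (f ⁻¹' {η}).Finite) :
    ∃ V : Y.Opens, IsAffineOpen V ∧ η ∈ V ∧ IsFinite (f ∣_ V) := by
  obtain ⟨V₀, hV₀, hηV₀, -⟩ := exists_isAffineOpen_mem_and_subset (x := η) (U := ⊤) trivial
  have hcpt : IsCompact ((f ⁻¹ᵁ V₀ : X.Opens) : Set X) :=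
    f.isCompact_preimage hV₀.isCompact
  obtain ⟨s, hs, hsU⟩ := (isCompact_iff_finite_and_eq_biUnion_affineOpens).mp hcpt
  have : Finite ↥s := hs.to_subtype
  have hqs : IsQuasiSeparated ((f ⁻¹ᵁ V₀ : X.Opens) : Set X) :=
    f.isQuasiSeparated_preimage hV₀.isQuasiSeparated
  have hUle : ∀ i : ↥s, (i.1.1 : X.Opens) ≤ f ⁻¹ᵁ V₀ := fun i =>
    (le_iSup₂ (f := fun (j : X.affineOpens) (_ : j ∈ s) => (j : X.Opens)) i.1 i.2).trans_eq
      hsU.symm
  have hcov : ∀ x : X, f x ∈ V₀ → ∃ i : ↥s, x ∈ (i.1.1 : X.Opens) := by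
    intro x hx
    have : x ∈ (f ⁻¹ᵁ V₀ : X.Opens) := hx
    rw [hsU] at this
    obtain ⟨i, hi⟩ := Opens.mem_iSup.mp this
    obtain ⟨hi', hxi⟩ := Opens.mem_iSup.mp hi
    exact ⟨⟨i, hi'⟩, hxi⟩
  have hC : ∀ i k : ↥s, ∀ z : X, z ∈ (k.1.1 : X.Opens) → f z = η →
      z ∈ closure (((i.1.1 : X.Opens) : Set X) ∩ (k.1.1 : X.Opens)) → z ∈ (i.1.1 : X.Opens) := by
    intro i k z hzk hfz hzcl
    have hK : IsCompact (((i.1.1 : X.Opens) : Set X) ∩ (k.1.1 : X.Opens)) :=
      hqs _ _ (hUle i) i.1.1.2 i.1.2.isCompact (hUle k) k.1.1.2 k.1.2.isCompact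
    obtain ⟨w, hw, hwz⟩ := exists_specializes_of_mem_closure_of_isAffineOpen k.1.2 hK
      (i.1.1.2.inter k.1.1.2) Set.inter_subset_right hzk hzcl
    have hfw : f w = η := hη _ (hfz ▸ hwz.map f.continuous)
    have := eq_of_specializes_of_finite_fiber f η hfin hfw hfz hwz
    exact this ▸ hw.1
  obtain ⟨V, hV, -, hηV, hfinV⟩ := exists_isFinite_morphismRestrict_of_cover f η hη hV₀ hηV₀
    (fun i : ↥s => (i.1.1 : X.Opens)) (fun i => i.1.2) hUle hcov hfin hC
  exact ⟨V, hV, hηV, hfinV⟩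

end Groth.Agent.Lib.Helper6.GenFin
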