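import Mathlib
import Groth.Agent.Lib.Helper6.GenFin.Fiber
import Groth.Agent.Lib.Helper6.LocIso.QFGeneric

/-!
# Generic finiteness: finitely many irreducible components
-/

set_option autoImplicit false
universe u

namespace Groth.Agent.Lib.Helper6.GenFin

open AlgebraicGeometry CategoryTheory TopologicalSpace Groth.Agent.Lib.Helper6.LocIso

variable {X Y : Scheme.{u}}

set_option backward.isDefEq.respectTransparency.types false in
/-- Finiteness over each member of a family of opens gives finiteness over their union. -/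
theorem isFinite_morphismRestrict_iSup (f : X ⟶ Y) {ι : Type*} (V : ι → Y.Opens)
    (h : ∀ i, IsFinite (f ∣_ V i)) : IsFinite (f ∣_ ⨆ i, V i) := by
  rw [IsZariskiLocalAtTarget.iff_of_iSup_eq_top (P := @IsFinite)
    (fun i => (⨆ i, V i).ι ⁻¹ᵁ V i) ?_]
  · intro i
    have e : (⨆ i, V i).ι ''ᵁ ((⨆ i, V i).ι ⁻¹ᵁ V i) = V i := by
      simp [Scheme.Hom.image_preimage_eq_opensRange_inf, le_iSup V i]
    exact (MorphismProperty.arrow_mk_iso_iff @IsFinite
      (morphismRestrictRestrict f _ _ ≪≫ morphismRestrictEq f e)).mpr (h i)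
  · rw [eq_top_iff]
    intro x _
    obtain ⟨i, hi⟩ := Opens.mem_iSup.mp x.2
    exact Opens.mem_iSup.mpr ⟨i, hi⟩

/-- The set of generic points of irreducible components is finite if there are finitely many
components. -/
theorem finite_generic_points {T : Type*} [TopologicalSpace T] [T0Space T]
    (hT : (irreducibleComponents T).Finite) :
    {x : T | closure {x} ∈ irreducibleComponents T}.Finite := by
  refine Set.Finite.of_finite_image (f := fun x : T => closure ({x} : Set T))
    (hT.subset ?_) ?_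
  · rintro _ ⟨x, hx, rfl⟩
    exact hx
  · intro a _ b _ hab
    exact ((inseparable_iff_closure_eq).mpr hab).eq

/-- Generic finiteness near a generic point, when `X` has finitely many irreducible components
and all points over `η` are generic. -/
theorem exists_isFinite_morphismRestrict_of_finite_components (f : X ⟶ Y)
    [LocallyOfFiniteType f] [QuasiCompact f] (hX : (irreducibleComponents X).Finite)
    (η : Y) (hη : ∀ y : Y, y ⤳ η → y = η)
    (hgen : ∀ x : X, f x = η → closure {x} ∈ irreducibleComponents X) :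
    ∃ V : Y.Opens, IsAffineOpen V ∧ η ∈ V ∧ IsFinite (f ∣_ V) := by
  have hfin : (f ⁻¹' {η}).Finite := (finite_generic_points hX).subset fun x hx => hgen x hx
  obtain ⟨V₀, hV₀, hηV₀, -⟩ := exists_isAffineOpen_mem_and_subset (x := η) (U := ⊤) trivial
  have hcpt : IsCompact ((f ⁻¹ᵁ V₀ : X.Opens) : Set X) :=
    f.isCompact_preimage hV₀.isCompact
  obtain ⟨s, hs, hsU⟩ := (isCompact_iff_finite_and_eq_biUnion_affineOpens).mp hcpt
  have : Finite ↥s := hs.to_subtype
  have hUle : ∀ i : ↥s, (i.1.1 : X.Opens) ≤ f ⁻¹ᵁ V₀ := fun i =>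
    (le_iSup₂ (f := fun (j : X.affineOpens) (_ : j ∈ s) => (j : X.Opens)) i.1 i.2).trans_eq
      hsU.symm
  have hcov : ∀ x : X, f x ∈ V₀ → ∃ i : ↥s, x ∈ (i.1.1 : X.Opens) := by
    intro x hx
    have : x ∈ (f ⁻¹ᵁ V₀ : X.Opens) := hx
    rw [hsU] at this
    obtain ⟨i, hi⟩ := Opens.mem_iSup.mp this
    obtain ⟨hi', hxi⟩ := Opens.mem_iSup.mp hi
    exact ⟨⟨i, hi'⟩, hxi⟩
  have hC : ∀ i k : ↥s, ∀ z : X, z ∈ (k.1.1 : X.Opens) → f z = η →
      z ∈ closure (((i.1.1 : X.Opens) : Set X) ∩ (k.1.1 : X.Opens)) → z ∈ (i.1.1 : X.Opens) := by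
    intro i k z _ hfz hzcl
    have hz := hgen z hfz
    obtain ⟨w, hwN, hw⟩ := mem_closure_iff.mp hzcl _ (isOpen_compOpen hX (closure {z}))
      (mem_compOpen_of_closure_mem hz)
    have hzw : z ⤳ w := specializes_iff_mem_closure.mpr (compOpen_subset hz hwN)
    exact hzw.mem_open i.1.1.2 hw.1
  obtain ⟨V, hV, -, hηV, hfinV⟩ := exists_isFinite_morphismRestrict_of_cover f η hη hV₀ hηV₀
    (fun i : ↥s => (i.1.1 : X.Opens)) (fun i => i.1.2) hUle hcov hfin hC
  exact ⟨V, hV, hηV, hfinV⟩

/-- **Generic finiteness over a dense open.** -/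
theorem exists_dense_isFinite_morphismRestrict (f : X ⟶ Y) [LocallyOfFiniteType f]
    [QuasiCompact f] (hX : (irreducibleComponents X).Finite)
    (hgen : ∀ x : X, closure {f x} ∈ irreducibleComponents Y →
      closure {x} ∈ irreducibleComponents X) :
    ∃ V : Y.Opens, Dense (V : Set Y) ∧ IsFinite (f ∣_ V) := by
  have h : ∀ η : {y : Y // closure {y} ∈ irreducibleComponents Y},
      ∃ V : Y.Opens, IsAffineOpen V ∧ η.1 ∈ V ∧ IsFinite (f ∣_ V) := fun η =>
    exists_isFinite_morphismRestrict_of_finite_components f hX η.1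
      (fun y hy => eq_of_specializes_of_closure_mem η.2 hy)
      (fun x hx => hgen x (hx ▸ η.2))
  choose V _ hV2 hV3 using h
  refine ⟨⨆ η, V η, ?_, isFinite_morphismRestrict_iSup f V hV3⟩
  refine dense_of_isOpen_of_generic_mem (⨆ η, V η).2 fun y hy => ?_
  exact Opens.mem_iSup.mpr ⟨⟨y, hy⟩, hV2 ⟨y, hy⟩⟩

end Groth.Agent.Lib.Helper6.GenFin
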