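import Mathlib
import Groth.Agent.Lib.Helper6.GenFin.Dense
import Groth.Agent.Lib.Helper6.LocIso.Birat

/-!
# Generic finiteness for dominant morphisms of integral schemes
-/

set_option autoImplicit false
universe u

namespace Groth.Agent.Lib.Helper6.GenFin

open AlgebraicGeometry CategoryTheory TopologicalSpace Groth.Agent.Lib.Helper6.LocIso

variable {X Y : Scheme.{u}} [IsIntegral X] [IsIntegral Y] (f : X ⟶ Y)

/-- A dominant morphism of integral schemes maps the generic point to the generic point. -/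
theorem map_genericPoint_of_isDominant [IsDominant f] :
    f (genericPoint X) = genericPoint Y := by
  apply ((genericPoint_spec Y).eq _).symm
  have h := (genericPoint_spec X).image f.continuous
  have h2 : closure (f '' Set.univ) = Set.univ := by
    rw [Set.image_univ]; exact f.denseRange.closure_range
  rw [h2] at h
  exact h

theorem eq_genericPoint_of_specializes (y : Y) (h : y ⤳ genericPoint Y) : y = genericPoint Y :=
  (h.antisymm (genericPoint_specializes y)).eq

theorem isIso_residue_of_eq_genericPoint (y : Y) (h : y = genericPoint Y) :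
    IsIso (Y.residue y) := by
  subst h
  exact isIso_residue_genericPoint Y

/-- Quasi-finiteness at the generic point is finiteness of the residue field extension. -/
theorem quasiFiniteAt_genericPoint_iff [IsDominant f] :
    f.QuasiFiniteAt (genericPoint X) ↔
      (letI := (f.residueFieldMap (genericPoint X)).hom.toAlgebra
       Module.Finite (Y.residueField (f (genericPoint X))) (X.residueField (genericPoint X))) := by
  have h1 : IsIso (X.residue (genericPoint X)) := isIso_residue_genericPoint X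
  have h2 : IsIso (Y.residue (f (genericPoint X))) :=
    isIso_residue_of_eq_genericPoint _ (map_genericPoint_of_isDominant f)
  let e : Arrow.mk (f.stalkMap (genericPoint X)) ≅ Arrow.mk (f.residueFieldMap (genericPoint X)) :=
    Arrow.isoMk (asIso (Y.residue (f (genericPoint X)))) (asIso (X.residue (genericPoint X)))
      (Scheme.residue_residueFieldMap f (genericPoint X))
  rw [Scheme.Hom.QuasiFiniteAt, RingHom.QuasiFinite.respectsIso.arrow_mk_iso_iff e]
  let _ := (f.residueFieldMap (genericPoint X)).hom.toAlgebra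
  exact Algebra.QuasiFinite.iff_of_isArtinianRing

/-- If `f` is quasi-finite at the generic point `ξ`, then `ξ` is the only point over `f ξ`. -/
theorem eq_genericPoint_of_quasiFiniteAt [LocallyOfFiniteType f]
    (hq : f.QuasiFiniteAt (genericPoint X)) (x : X) (hx : f x = f (genericPoint X)) :
    x = genericPoint X := by
  have hcl := isClosed_singleton_of_quasiFiniteAt f (genericPoint X) (f (genericPoint X)) rfl hq
  have h1 : (⟨genericPoint X, rfl⟩ : f ⁻¹' {f (genericPoint X)}) ⤳ ⟨x, hx⟩ :=
    (subtype_specializes_iff _ _).mpr (genericPoint_specializes x)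
  have h2 : (⟨x, hx⟩ : f ⁻¹' {f (genericPoint X)}) ∈
      ({⟨genericPoint X, rfl⟩} : Set (f ⁻¹' {f (genericPoint X)})) :=
    h1.mem_closed hcl rfl
  exact congrArg Subtype.val h2

/-- If `ξ` is the only point over `f ξ`, then `f` is quasi-finite at `ξ`. -/
theorem quasiFiniteAt_of_forall_eq_genericPoint [LocallyOfFiniteType f]
    (h : ∀ x : X, f x = f (genericPoint X) → x = genericPoint X) :
    f.QuasiFiniteAt (genericPoint X) := by
  rw [quasiFiniteAt_iff_isOpen_singleton f (genericPoint X) (f (genericPoint X)) rfl]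
  have : ({⟨genericPoint X, rfl⟩} : Set (f ⁻¹' {f (genericPoint X)})) = Set.univ := by
    ext x
    simp only [Set.mem_singleton_iff, Set.mem_univ, iff_true]
    exact Subtype.ext (h x.1 x.2)
  rw [this]
  exact isOpen_univ

/-- Uniqueness of the point over the generic point gives finiteness on affine opens. -/
theorem exists_isFinite_resLE_of_forall_eq_genericPoint [IsDominant f] [LocallyOfFiniteType f]
    (h : ∀ x : X, f x = genericPoint Y → x = genericPoint X) :
    ∃ (U : X.Opens) (V : Y.Opens) (hUV : U ≤ f ⁻¹ᵁ V), IsAffineOpen U ∧ IsAffineOpen V ∧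
      Nonempty ↥U ∧ IsFinite (f.resLE V U hUV) := by
  have hfξ := map_genericPoint_of_isDominant f
  obtain ⟨V₀, hV₀, hηV₀, -⟩ :=
    exists_isAffineOpen_mem_and_subset (x := genericPoint Y) (U := ⊤) trivial
  obtain ⟨U₀, hU₀, hξU₀, hU₀le⟩ := exists_isAffineOpen_mem_and_subset
    (x := genericPoint X) (U := f ⁻¹ᵁ V₀) (by show f (genericPoint X) ∈ V₀; rw [hfξ]; exact hηV₀)
  have hfin : {x : X | x ∈ U₀ ∧ f x = genericPoint Y}.Finite :=
    (Set.finite_singleton (genericPoint X)).subset fun x hx => h x hx.2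
  obtain ⟨g, hg, H⟩ := exists_isFinite_resLE f (genericPoint Y)
    (eq_genericPoint_of_specializes) hV₀ hηV₀ hU₀ hU₀le hfin
  refine ⟨U₀ ⊓ f ⁻¹ᵁ Y.basicOpen g, Y.basicOpen g, inf_le_right, ?_, hV₀.basicOpen g,
    ⟨⟨genericPoint X, hξU₀, ?_⟩⟩, H _ _ rfl⟩
  · rw [← Scheme.basicOpen_appLE (f := f) (e := hU₀le)]
    exact hU₀.basicOpen _
  · show f (genericPoint X) ∈ Y.basicOpen g
    rw [hfξ]; exact hg

/-- Finiteness on nonempty affine opens gives quasi-finiteness at the generic point. -/
theorem quasiFiniteAt_genericPoint_of_isFinite_resLE {U : X.Opens} {V : Y.Opens}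
    (hUV : U ≤ f ⁻¹ᵁ V) (hne : Nonempty ↥U) (hfin : IsFinite (f.resLE V U hUV)) :
    f.QuasiFiniteAt (genericPoint X) := by
  have hξU : genericPoint X ∈ U :=
    ((genericPoint_spec X).mem_open_set_iff U.isOpen).mpr
      (by obtain ⟨u⟩ := hne; exact ⟨u.1, Set.mem_univ _, u.2⟩)
  have h1 : (f.resLE V U hUV).QuasiFiniteAt ⟨genericPoint X, hξU⟩ :=
    (f.resLE V U hUV).quasiFiniteAt _
  have h2 : (f.resLE V U hUV ≫ V.ι).QuasiFiniteAt ⟨genericPoint X, hξU⟩ :=
    Scheme.Hom.quasiFiniteAt_comp_iff.mpr h1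
  rw [Scheme.Hom.resLE_comp_ι] at h2
  have h3 : f.QuasiFiniteAt (U.ι ⟨genericPoint X, hξU⟩) :=
    (Scheme.Hom.quasiFiniteAt_comp_iff_of_isOpenImmersion (f := U.ι) (g := f)).mp h2
  rwa [Scheme.Opens.ι_apply] at h3

theorem genericPoint_mem_of_nonempty (V : Y.Opens) (hne : Nonempty ↥V) : genericPoint Y ∈ V :=
  ((genericPoint_spec Y).mem_open_set_iff V.isOpen).mpr
    (by obtain ⟨u⟩ := hne; exact ⟨u.1, Set.mem_univ _, u.2⟩)

/-- Finiteness over a nonempty affine open gives finiteness on affine opens. -/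
theorem exists_isFinite_resLE_of_isFinite_morphismRestrict [IsDominant f] {V : Y.Opens}
    (hV : IsAffineOpen V) (hne : Nonempty ↥V) (hfin : IsFinite (f ∣_ V)) :
    ∃ (U : X.Opens) (V : Y.Opens) (hUV : U ≤ f ⁻¹ᵁ V), IsAffineOpen U ∧ IsAffineOpen V ∧
      Nonempty ↥U ∧ IsFinite (f.resLE V U hUV) := by
  have hVaff : IsAffine V.toScheme := hV
  have hUaff : IsAffine (f ⁻¹ᵁ V).toScheme := isAffine_of_isAffineHom (f ∣_ V)
  refine ⟨f ⁻¹ᵁ V, V, le_rfl, hUaff, hV, ⟨⟨genericPoint X, ?_⟩⟩, ?_⟩
  · show f (genericPoint X) ∈ V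
    rw [map_genericPoint_of_isDominant f]
    exact genericPoint_mem_of_nonempty V hne
  · rw [Scheme.Hom.resLE_eq_morphismRestrict]
    exact hfin

/-- Separated case: finiteness on affine opens gives finiteness over the affine open. -/
theorem isFinite_morphismRestrict_of_isSeparated [IsSeparated f] {U : X.Opens} {V : Y.Opens}
    (hUV : U ≤ f ⁻¹ᵁ V) (hne : Nonempty ↥U) (hfin : IsFinite (f.resLE V U hUV)) :
    IsFinite (f ∣_ V) := by
  have hfin' : IsFinite (X.homOfLE hUV ≫ f ∣_ V) := hfin
  have hj : IsFinite (X.homOfLE hUV) := IsFinite.of_comp (X.homOfLE hUV) (f ∣_ V)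
  have hclosed : IsClosed (Set.range (X.homOfLE hUV)) :=
    (X.homOfLE hUV).isClosedMap.isClosed_range
  have hopen : IsOpen ((f ⁻¹ᵁ V).ι '' (Set.range (X.homOfLE hUV))ᶜ) :=
    (f ⁻¹ᵁ V).ι.isOpenEmbedding.isOpenMap _ hclosed.isOpen_compl
  have hξU : genericPoint X ∈ U :=
    ((genericPoint_spec X).mem_open_set_iff U.isOpen).mpr
      (by obtain ⟨u⟩ := hne; exact ⟨u.1, Set.mem_univ _, u.2⟩)
  have hle : f ⁻¹ᵁ V ≤ U := by
    intro z hz
    by_contra hzU
    have hmem : z ∈ (f ⁻¹ᵁ V).ι '' (Set.range (X.homOfLE hUV))ᶜ := by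
      refine ⟨⟨z, hz⟩, ?_, rfl⟩
      rintro ⟨u, hu⟩
      have h1 : (X.homOfLE hUV u).1 = z := congrArg Subtype.val hu
      have h2 : u.1 = z := (Scheme.homOfLE_apply hUV u).symm.trans h1
      exact hzU (h2 ▸ u.2)
    have hξ := (genericPoint_specializes z).mem_open hopen hmem
    obtain ⟨w', hw'1, hw'2⟩ := hξ
    apply hw'1
    refine ⟨⟨genericPoint X, hξU⟩, Subtype.ext ?_⟩
    exact (Scheme.homOfLE_apply hUV ⟨genericPoint X, hξU⟩).trans hw'2.symm
  obtain rfl : U = f ⁻¹ᵁ V := le_antisymm hUV hle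
  rw [← Scheme.Hom.resLE_eq_morphismRestrict]
  exact hfin

/-- Quasi-compact case: uniqueness of the point over the generic point gives finiteness over an
affine open. -/
theorem exists_isFinite_morphismRestrict_of_forall_eq_genericPoint [LocallyOfFiniteType f]
    [QuasiCompact f] (h : ∀ x : X, f x = genericPoint Y → x = genericPoint X) :
    ∃ V : Y.Opens, IsAffineOpen V ∧ Nonempty ↥V ∧ IsFinite (f ∣_ V) := by
  have hX : (irreducibleComponents X).Finite := by
    rw [irreducibleComponents_eq_singleton]; exact Set.finite_singleton _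
  obtain ⟨V, hV, hηV, hfin⟩ := exists_isFinite_morphismRestrict_of_finite_components f hX
    (genericPoint Y) eq_genericPoint_of_specializes (fun x hx => by
      rw [h x hx, (genericPoint_spec X).def, irreducibleComponents_eq_singleton]
      exact Set.mem_singleton _)
  exact ⟨V, hV, ⟨⟨genericPoint Y, hηV⟩⟩, hfin⟩

end Groth.Agent.Lib.Helper6.GenFin
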